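import Groth.Agent.S9670
import Groth.Agent.S9667
import Mathlib.RingTheory.Flat.FaithfullyFlat.Basic
import Mathlib.RingTheory.Length

/-!
# Socles of tensor products with a flat module
-/

set_option autoImplicit false
set_option linter.style.haveILetI false

universe u

open IsLocalRing TensorProduct

namespace Groth.Agent.AssLib2

/-- A nonzero element killed by the maximal ideal. -/
def Soc (T : Type u) [CommRing T] [IsLocalRing T] (V : Type u) [AddCommGroup V] [Module T V] : Prop :=
  ∃ v : V, v ≠ 0 ∧ ∀ r ∈ maximalIdeal T, r • v = 0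

section Basic

variable {T : Type u} [CommRing T] [IsLocalRing T] {V : Type u} [AddCommGroup V] [Module T V]

theorem soc_iff_flatCA : Soc T V ↔ maximalIdeal T ∈ FlatCA.ass T V := by
  refine ⟨fun ⟨v, hv, h⟩ => ⟨inferInstance, v, le_antisymm (fun r hr => ?_) (le_maximalIdeal fun htop => hv ?_)⟩,
    fun ⟨hp, v, hv⟩ => ⟨v, fun h0 => hp.ne_top ?_, fun r hr => ?_⟩⟩
  · exact (Submodule.mem_annihilator_span_singleton _ _).2 (h r hr)
  · have h2 : (1 : T) • v = 0 := (Submodule.mem_annihilator_span_singleton _ _).1 (htop ▸ Submodule.mem_top)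
    rwa [one_smul] at h2
  · rw [hv, h0]
    simp [Submodule.annihilator_bot]
  · rw [hv] at hr
    exact (Submodule.mem_annihilator_span_singleton _ _).1 hr

theorem soc_iff_ass [IsNoetherianRing T] : Soc T V ↔ IsAssociatedPrime (maximalIdeal T) V := by
  rw [isAssociatedPrime_iff]
  refine ⟨fun ⟨v, hv, h⟩ => ⟨inferInstance, v, le_antisymm (fun r hr => ?_) (le_maximalIdeal fun htop => hv ?_)⟩,
    fun ⟨hp, v, hv⟩ => ⟨v, fun h0 => hp.ne_top ?_, fun r hr => ?_⟩⟩
  · rw [Submodule.mem_colon_singleton, Submodule.mem_bot]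
    exact h r hr
  · have h2 : (1 : T) ∈ Submodule.colon (⊥ : Submodule T V) {v} := htop ▸ Submodule.mem_top
    rwa [Submodule.mem_colon_singleton, Submodule.mem_bot, one_smul] at h2
  · rw [hv, h0]
    exact eq_top_iff.2 fun r _ => by rw [Submodule.mem_colon_singleton, smul_zero]; exact zero_mem _
  · rw [hv, Submodule.mem_colon_singleton, Submodule.mem_bot] at hr
    exact hr

theorem soc_of_semilinear {T' V' : Type u} [CommRing T'] [IsLocalRing T'] [AddCommGroup V'] [Module T' V']
    (σ : T →+* T') (hσ : Function.Surjective σ) (e : V ≃+ V')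
    (he : ∀ (r : T) (v : V), e (r • v) = σ r • e v) : Soc T V ↔ Soc T' V' := by
  refine ⟨fun ⟨v, hv, h⟩ => ⟨e v, fun h0 => hv (e.map_eq_zero_iff.1 h0), fun r hr => ?_⟩,
    fun ⟨v, hv, h⟩ => ⟨e.symm v, fun h0 => hv (e.symm.map_eq_zero_iff.1 h0), fun r hr => e.injective ?_⟩⟩
  · obtain ⟨r, rfl⟩ := hσ r
    rw [← he, h r fun hu => hr (hu.map σ), map_zero]
  · rw [map_zero, he, e.apply_symm_apply]
    refine h _ fun hu => hr ?_
    haveI : IsLocalHom σ := .of_surjective σ hσ
    exact isUnit_of_map_unit σ r hu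

theorem length_of_semilinear {T' V' : Type u} [CommRing T'] [AddCommGroup V'] [Module T' V']
    (σ : T →+* T') (hσ : Function.Surjective σ) (e : V ≃+ V')
    (he : ∀ (r : T) (v : V), e (r • v) = σ r • e v) : Module.length T V = Module.length T' V' := by
  letI : Algebra T T' := σ.toAlgebra
  letI : Module T V' := Module.compHom _ σ
  haveI : IsScalarTower T T' V' := IsScalarTower.of_algebraMap_smul fun _ _ => rfl
  rw [← Module.length_eq_of_surjective (S := T) (R := T') (M := V') hσ]
  exact LinearEquiv.length_eq ({ e with map_smul' := fun a m => he a m } : V ≃ₗ[T] V')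

end Basic

section Tensor

variable {R T : Type u} [CommRing R] [CommRing T] [Algebra R T] {N : Type u} [AddCommGroup N] [Module T N]
  [Module R N] [IsScalarTower R T N] [Module.Flat R N] {M : Type u} [AddCommGroup M] [Module R M]

/-- `n ↦ n ⊗ v`. -/
noncomputable def tmulRight (v : M) : N →ₗ[T] N ⊗[R] M :=
  (TensorProduct.AlgebraTensorModule.mk R T N M).flip v

theorem ker_tmulRight (p : Ideal R) [p.IsPrime] (v : M) (hv : ∀ r, r • v = 0 ↔ r ∈ p) :
    LinearMap.ker (tmulRight (R := R) (T := T) (N := N) v) = p.map (algebraMap R T) • (⊤ : Submodule T N) := by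
  refine le_antisymm (fun n hn => ?_) ?_
  · let ι : (R ⧸ p) →ₗ[R] M := Submodule.liftQ p (LinearMap.toSpanSingleton R M v) fun r hr => (hv r).2 hr
    have hι : Function.Injective ι := by
      rw [← LinearMap.ker_eq_bot, Submodule.ker_liftQ_eq_bot']
      ext r
      rw [LinearMap.mem_ker, LinearMap.toSpanSingleton_apply, hv]
    have h0 : n ⊗ₜ[R] (Ideal.Quotient.mk p 1) = 0 := by
      apply Module.Flat.lTensor_preserves_injective_linearMap (M := N) ι hι
      rw [LinearMap.lTensor_tmul, map_zero]
      show n ⊗ₜ[R] ((1 : R) • v) = 0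
      rw [one_smul]
      exact hn
    have h1 := congrArg (TensorProduct.tensorQuotEquivQuotSMul N p) h0
    rw [TensorProduct.tensorQuotEquivQuotSMul_tmul_mk, one_smul, map_zero, Submodule.Quotient.mk_eq_zero] at h1
    exact AssFiber.smul_mem_pN p N h1
  · refine Submodule.smul_le.2 fun a ha m _ => ?_
    induction ha using Submodule.span_induction with
    | mem a h =>
      obtain ⟨r, hr, rfl⟩ := h
      rw [LinearMap.mem_ker, algebraMap_smul]
      show (r • m) ⊗ₜ[R] v = 0
      rw [TensorProduct.smul_tmul, (hv r).2 hr, TensorProduct.tmul_zero]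
    | zero => rw [zero_smul]; exact zero_mem _
    | add a b _ _ ha hb => rw [add_smul]; exact add_mem ha hb
    | smul c a _ ha => rw [smul_assoc]; exact Submodule.smul_mem _ c ha

/-- The inclusion `N / pN → N ⊗ M` given by an element with annihilator `p`. -/
noncomputable def quotIncl (p : Ideal R) [p.IsPrime] (v : M) (hv : ∀ r, r • v = 0 ↔ r ∈ p) :
    (N ⧸ p.map (algebraMap R T) • (⊤ : Submodule T N)) →ₗ[T] N ⊗[R] M :=
  Submodule.liftQ _ (tmulRight v) (ker_tmulRight p v hv).ge

theorem quotIncl_injective (p : Ideal R) [p.IsPrime] (v : M) (hv : ∀ r, r • v = 0 ↔ r ∈ p) :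
    Function.Injective (quotIncl (T := T) (N := N) p v hv) :=
  LinearMap.ker_eq_bot.1 (Submodule.ker_liftQ_eq_bot' _ _ (ker_tmulRight p v hv).symm)

section Local

variable [IsLocalRing R] [IsLocalRing T] [IsLocalHom (algebraMap R T)]

omit [Module.Flat R N] in
theorem map_maximalIdeal_le : (maximalIdeal R).map (algebraMap R T) ≤ maximalIdeal T :=
  Ideal.map_le_iff_le_comap.2 fun r hr hu => hr (isUnit_of_map_unit _ r hu)

omit [Module.Flat R N] in
theorem comap_maximalIdeal_eq : (maximalIdeal T).comap (algebraMap R T) = maximalIdeal R :=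
  ((maximalIdeal.isMaximal R).eq_of_le ((maximalIdeal.isMaximal T).isPrime.comap (algebraMap R T)).ne_top
    (Ideal.map_le_iff_le_comap.1 map_maximalIdeal_le)).symm

omit [Module.Flat R N] in
theorem colon_of_soc {v : M} (hv : v ≠ 0) (h : ∀ r ∈ maximalIdeal R, r • v = 0) :
    ∀ r, r • v = 0 ↔ r ∈ maximalIdeal R := fun r =>
  ⟨fun h0 hu => hv (hu.smul_eq_zero.1 h0), h r⟩

/-- Associated maximal ideal of `N ⊗ M` for `N` flat over the base. -/
theorem soc_tensor_iff [IsNoetherianRing R] [IsNoetherianRing T] :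
    Soc T (N ⊗[R] M) ↔
      Soc R M ∧ Soc T (N ⧸ (maximalIdeal R).map (algebraMap R T) • (⊤ : Submodule T N)) := by
  constructor
  · intro h
    constructor
    · by_contra hM
      obtain ⟨σ, hσ⟩ := (IsNoetherian.noetherian (maximalIdeal R) : (maximalIdeal R).FG)
      let φ : M →ₗ[R] (σ → M) := LinearMap.pi fun g => LinearMap.lsmul R M g.1
      have hφ : Function.Injective φ := by
        rw [← LinearMap.ker_eq_bot, Submodule.eq_bot_iff]
        intro m hm
        by_contra hne
        refine hM ⟨m, hne, fun r hr => ?_⟩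
        rw [← hσ] at hr
        induction hr using Submodule.span_induction with
        | mem g hg => exact congrFun (LinearMap.mem_ker.1 hm) ⟨g, hg⟩
        | zero => exact zero_smul R m
        | add a b _ _ ha hb => rw [add_smul, ha, hb, add_zero]
        | smul c a _ ha => rw [smul_assoc, ha, smul_zero]
      obtain ⟨w, hw, hkill⟩ := h
      refine hw (Module.Flat.lTensor_preserves_injective_linearMap (M := N) φ hφ ?_)
      classical
      have key : ∀ (z : N ⊗[R] M) (g : σ), TensorProduct.piRight R R N (fun _ : σ => M) (φ.lTensor N z) g = g.1 • z := by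
        intro z g
        induction z using TensorProduct.induction_on with
        | zero => simp
        | tmul n m => simp [φ]
        | add a b ha hb => rw [map_add, map_add, Pi.add_apply, ha, hb, smul_add]
      rw [map_zero]
      refine (TensorProduct.piRight R R N (fun _ : σ => M)).injective (funext fun g => ?_)
      rw [key, map_zero, ← algebraMap_smul T g.1 w]
      refine hkill _ (map_maximalIdeal_le (R := R) ?_)
      exact Ideal.mem_map_of_mem _ (hσ ▸ Submodule.subset_span g.2)
    · obtain ⟨M', hfg, hM'⟩ := S9667.result (R := R) N M (maximalIdeal T) (soc_iff_flatCA.1 h)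
      haveI : Module.Finite R M' := Module.Finite.iff_fg.2 hfg
      exact soc_iff_flatCA.2 (S9670.result N M' (maximalIdeal R) (maximalIdeal T)
        comap_maximalIdeal_eq hM')
  · rintro ⟨⟨v, hv, h⟩, w, hw, hkill⟩
    let ι := quotIncl (T := T) (N := N) (maximalIdeal R) v (colon_of_soc hv h)
    have hι := quotIncl_injective (T := T) (N := N) (maximalIdeal R) v (colon_of_soc hv h)
    exact ⟨ι w, fun h0 => hw (hι (h0.trans (map_zero ι).symm)), fun r hr => by rw [← map_smul, hkill r hr, map_zero]⟩

/-- Over every associated prime of `M` there is an associated prime of `N ⊗ M`. -/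
theorem exists_ass_over [IsNoetherianRing R] [IsNoetherianRing T] [Module.Finite T N] [Nontrivial N]
    {p : Ideal R} (hp : IsAssociatedPrime p M) :
    ∃ P : Ideal T, IsAssociatedPrime P (N ⊗[R] M) ∧ P.comap (algebraMap R T) = p := by
  obtain ⟨hpp, v, hv⟩ := isAssociatedPrime_iff.1 hp
  haveI := hpp
  have hv' : ∀ r, r • v = 0 ↔ r ∈ p := fun r => by rw [hv, Submodule.mem_colon_singleton, Submodule.mem_bot]
  haveI : Nontrivial (N ⧸ p.map (algebraMap R T) • (⊤ : Submodule T N)) := by
    refine Submodule.Quotient.nontrivial_iff.2 fun htop => ?_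
    have hle : p.map (algebraMap R T) ≤ maximalIdeal T :=
      (Ideal.map_mono (le_maximalIdeal hpp.ne_top)).trans map_maximalIdeal_le
    have h2 := Submodule.eq_bot_of_le_smul_of_le_jacobson_bot (maximalIdeal T) (⊤ : Submodule T N)
      Module.Finite.fg_top (htop.ge.trans (Submodule.smul_mono_left hle))
      (IsLocalRing.maximalIdeal_le_jacobson _)
    exact (top_ne_bot : (⊤ : Submodule T N) ≠ ⊥) h2
  obtain ⟨P, hP⟩ := associatedPrimes.nonempty T (N ⧸ p.map (algebraMap R T) • (⊤ : Submodule T N))
  refine ⟨P, hP.map_of_injective (f := quotIncl p v hv') (quotIncl_injective p v hv'), ?_⟩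
  obtain ⟨hPp, z, hz⟩ := isAssociatedPrime_iff.1 hP
  exact AssFiber.comap_eq_of_mem_ass p N ⟨hPp, z, by
    ext r
    rw [hz, Submodule.mem_colon_singleton, Submodule.mem_bot, Submodule.mem_annihilator_span_singleton]⟩

/-- Length one of `N ⊗ M`. -/
theorem length_tensor_eq_one_iff [Module.Finite R M] [Module.Finite T N] [Nontrivial N] (hM : Soc R M) :
    Module.length T (N ⊗[R] M) = 1 ↔
      Module.length R M = 1 ∧ Module.length T (N ⧸ (maximalIdeal R).map (algebraMap R T) • (⊤ : Submodule T N)) = 1 := by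
  obtain ⟨v, hv, hkill⟩ := hM
  have hv' := colon_of_soc hv hkill
  let ι := quotIncl (T := T) (N := N) (maximalIdeal R) v hv'
  have hι : Function.Injective ι := quotIncl_injective (T := T) (N := N) _ v hv'
  have hle : (maximalIdeal R).map (algebraMap R T) ≤ maximalIdeal T := map_maximalIdeal_le
  have hne : (maximalIdeal R).map (algebraMap R T) • (⊤ : Submodule T N) ≠ ⊤ := fun htop =>
    (top_ne_bot : (⊤ : Submodule T N) ≠ ⊥) (Submodule.eq_bot_of_le_smul_of_le_jacobson_bot (maximalIdeal T) _
      Module.Finite.fg_top (htop.ge.trans (Submodule.smul_mono_left hle))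
      (IsLocalRing.maximalIdeal_le_jacobson _))
  haveI : Nontrivial (N ⧸ (maximalIdeal R).map (algebraMap R T) • (⊤ : Submodule T N)) :=
    Submodule.Quotient.nontrivial_iff.2 hne
  haveI : Module.FaithfullyFlat R N := ⟨fun {m} hm h => hne (eq_top_iff.2 fun n _ => by
    rw [eq_maximalIdeal hm] at h
    exact AssFiber.smul_mem_pN _ N (Submodule.eq_top_iff'.1 h n))⟩
  constructor
  · intro h1
    haveI : IsSimpleModule T (N ⊗[R] M) := Module.length_eq_one_iff.1 h1
    have hr : LinearMap.range ι = ⊤ := (eq_bot_or_eq_top _).resolve_left fun hb => by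
      obtain ⟨z, hz⟩ := exists_ne (0 : N ⧸ (maximalIdeal R).map (algebraMap R T) • (⊤ : Submodule T N))
      exact hz (hι ((LinearMap.range_eq_bot.1 hb ▸ rfl : ι z = 0).trans (map_zero ι).symm))
    let e := LinearEquiv.ofBijective ι ⟨hι, LinearMap.range_eq_top.1 hr⟩
    refine ⟨?_, by rw [e.length_eq]; exact h1⟩
    let Q := M ⧸ Submodule.span R {v}
    have hQ : Subsingleton (N ⊗[R] Q) := by
      refine subsingleton_of_forall_eq 0 fun z => ?_
      obtain ⟨z, rfl⟩ := LinearMap.lTensor_surjective N (Submodule.mkQ_surjective (Submodule.span R {v})) z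
      obtain ⟨w, hw⟩ := e.surjective z
      obtain ⟨n, rfl⟩ := Submodule.Quotient.mk_surjective _ w
      rw [← hw]
      show (Submodule.span R {v}).mkQ.lTensor N (n ⊗ₜ[R] v) = 0
      rw [LinearMap.lTensor_tmul, Submodule.mkQ_apply,
        (Submodule.Quotient.mk_eq_zero _).2 (Submodule.mem_span_singleton_self v), TensorProduct.tmul_zero]
    have hspan : Submodule.span R {v} = ⊤ := by
      by_contra hs
      haveI : Nontrivial Q := Submodule.Quotient.nontrivial_iff.2 hs
      exact not_subsingleton (N ⊗[R] Q) hQ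
    haveI : Nontrivial M := nontrivial_of_ne v 0 hv
    refine Module.length_eq_one_iff.2 (isSimpleModule_iff_toSpanSingleton_surjective.2 ⟨inferInstance, fun m hm m' => ?_⟩)
    obtain ⟨a, rfl⟩ := Submodule.mem_span_singleton.1 (hspan ▸ Submodule.mem_top : m ∈ Submodule.span R {v})
    obtain ⟨b, rfl⟩ := Submodule.mem_span_singleton.1 (hspan ▸ Submodule.mem_top : m' ∈ Submodule.span R {v})
    have ha : IsUnit a := by_contra fun hu => hm (hkill a hu)
    obtain ⟨a, rfl⟩ := ha
    exact ⟨b * ↑a⁻¹, by simp [smul_smul]⟩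
  · rintro ⟨h1, h2⟩
    haveI : IsSimpleModule R M := Module.length_eq_one_iff.1 h1
    have hsurj : Function.Surjective ι := fun z => by
      induction z using TensorProduct.induction_on with
      | zero => exact ⟨0, map_zero _⟩
      | tmul n m =>
        obtain ⟨c, rfl⟩ := IsSimpleModule.toSpanSingleton_surjective R hv m
        refine ⟨Submodule.Quotient.mk (c • n), ?_⟩
        show (c • n) ⊗ₜ[R] v = _
        rw [LinearMap.toSpanSingleton_apply, TensorProduct.smul_tmul]
      | add a b ha hb =>
        obtain ⟨a, rfl⟩ := ha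
        obtain ⟨b, rfl⟩ := hb
        exact ⟨a + b, map_add _ _ _⟩
    rw [← (LinearEquiv.ofBijective ι ⟨hι, hsurj⟩).length_eq]
    exact h2

end Local

end Tensor

end Groth.Agent.AssLib2
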