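import Groth.Agent.AssLib.Apply
import Groth.Agent.KFlatLib.Scheme.Pullback
import Groth.Agent.QCoh.Qcqs
import Groth.Agent.QCoh.Support
import Groth.Agent.Growth22.Ineq
import Groth.Agent.AssPtX.Basic
import Mathlib.RingTheory.Filtration
import Mathlib.RingTheory.Finiteness.Quotient

/-!
# Coprimary quotients
-/

set_option autoImplicit false
set_option linter.style.haveILetI false
set_option backward.isDefEq.respectTransparency false
set_option backward.isDefEq.respectTransparency.types false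

universe u

open AlgebraicGeometry CategoryTheory Limits IsLocalRing Opposite

namespace Groth.Agent.AssLib2

variable {X : Scheme.{u}} [IsLocallyNoetherian X] {M : X.Modules}

/-- A power of the maximal ideal whose multiples avoid the socle. -/
theorem exists_pow_avoid (R V : Type u) [CommRing R] [IsLocalRing R] [IsNoetherianRing R] [AddCommGroup V]
    [Module R V] [Module.Finite R V] :
    ∃ n : ℕ, 0 < n ∧ ∀ v ∈ (maximalIdeal R ^ n • ⊤ : Submodule R V), (∀ r ∈ maximalIdeal R, r • v = 0) → v = 0 := by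
  let S : Submodule R V :=
    { carrier := {v | ∀ r ∈ maximalIdeal R, r • v = 0}
      add_mem' := fun ha hb r hr => by rw [smul_add, ha r hr, hb r hr, add_zero]
      zero_mem' := fun r _ => smul_zero r
      smul_mem' := fun c v hv r hr => by rw [smul_comm, hv r hr, smul_zero] }
  obtain ⟨c, hc⟩ := Ideal.exists_pow_inf_eq_pow_smul (maximalIdeal R) S
  refine ⟨c + 1, Nat.succ_pos _, fun v hv hS => ?_⟩
  have h := hc (c + 1) (Nat.le_succ c)
  have hmem : v ∈ maximalIdeal R ^ (c + 1 - c) • (maximalIdeal R ^ c • ⊤ ⊓ S) := h.le ⟨hv, hS⟩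
  rw [Nat.add_sub_cancel_left, pow_one] at hmem
  refine Submodule.smul_induction_on hmem (fun r hr w hw => ?_) (fun a b ha hb => ?_)
  · exact hw.2 r hr
  · rw [ha, hb, add_zero]

variable (M)

/-- The chosen exponent at a point. -/
noncomputable def expo (hM : Coh.IsCoh M) (x : X) : ℕ :=
  haveI := QCoh.finite_stalk_of_isFT hM.1 hM.2 x
  (exists_pow_avoid (X.presheaf.stalk x) (M.presheaf.stalk x)).choose

theorem expo_spec (hM : Coh.IsCoh M) (x : X) :
    0 < expo M hM x ∧ ∀ v ∈ (maximalIdeal (X.presheaf.stalk x) ^ expo M hM x • ⊤ :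
      Submodule (X.presheaf.stalk x) (M.presheaf.stalk x)),
      (∀ r ∈ maximalIdeal (X.presheaf.stalk x), r • v = 0) → v = 0 :=
  haveI := QCoh.finite_stalk_of_isFT hM.1 hM.2 x
  (exists_pow_avoid (X.presheaf.stalk x) (M.presheaf.stalk x)).choose_spec

/-- The primary submodule of the stalk. -/
noncomputable def prim (hM : Coh.IsCoh M) (x : X) : Submodule (X.presheaf.stalk x) (M.presheaf.stalk x) :=
  maximalIdeal (X.presheaf.stalk x) ^ expo M hM x • ⊤

/-- `M_x / m^N M_x`. -/
noncomputable def primQuot (hM : Coh.IsCoh M) (x : X) : ModuleCat.{u} (X.presheaf.stalk x) :=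
  ModuleCat.of _ (M.presheaf.stalk x ⧸ prim M hM x)

/-- The map to the skyscraper. -/
noncomputable def toSky (hM : Coh.IsCoh M) (x : X) : M ⟶ (KFlatLib.sky x).obj (primQuot M hM x) :=
  (KFlatLib.skyAdj x).homEquiv M (primQuot M hM x) (ModuleCat.ofHom (prim M hM x).mkQ)

theorem toSky_app (hM : Coh.IsCoh M) (x : X) {U : X.Opens} (hx : x ∈ U) (s : Γ(M, U)) :
    (((toSky M hM x).app U s) ⟨hx⟩ : primQuot M hM x) = (prim M hM x).mkQ (M.presheaf.germ U x hx s) := by
  dsimp only [toSky]
  rw [show (KFlatLib.skyAdj x).homEquiv M (primQuot M hM x) = _ from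
    congrFun (congrFun (Adjunction.mkOfHomEquiv_homEquiv _) M) _]
  rfl

theorem pow_smul_eq_zero (hM : Coh.IsCoh M) (x : X) {r : X.presheaf.stalk x}
    (hr : r ∈ maximalIdeal (X.presheaf.stalk x)) (v : primQuot M hM x) : r ^ expo M hM x • v = 0 := by
  obtain ⟨v, rfl⟩ := (prim M hM x).mkQ_surjective v
  show r ^ expo M hM x • (Submodule.Quotient.mk v : M.presheaf.stalk x ⧸ prim M hM x) = 0
  rw [← Submodule.Quotient.mk_smul, Submodule.Quotient.mk_eq_zero]
  exact Submodule.smul_mem_smul (Ideal.pow_mem_pow hr _) trivial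

theorem isQCoh_sky (hM : Coh.IsCoh M) (x : X) : Coh.IsQCoh ((KFlatLib.sky x).obj (primQuot M hM x)) := by
  refine QCoh.isQCoh_of_sections (fun U hU f s => ?_) (fun U hU f t ht => ?_)
  · classical
    refine ⟨0, fun _ => if h : x ∈ X.basicOpen f then (s ⟨h⟩ : primQuot M hM x) else (0 : primQuot M hM x), ?_⟩
    rw [pow_zero, one_smul]
    funext h
    exact dif_pos h.down
  · refine ⟨expo M hM x, funext fun h => ?_⟩
    show X.presheaf.germ U x h.down (f ^ expo M hM x) • (t h : primQuot M hM x) = 0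
    by_cases hx : x ∈ X.basicOpen f
    · have : (t h : primQuot M hM x) = 0 := congrFun ht ⟨hx⟩
      rw [this, smul_zero]
    · rw [map_pow]
      exact pow_smul_eq_zero M hM x (fun hu => hx ((X.mem_basicOpen f x h.down).2 hu)) _

/-- The coprimary quotient at `x`. -/
noncomputable def coprim (hM : Coh.IsCoh M) (x : X) : X.Modules := Abelian.image (toSky M hM x)

/-- The projection to the coprimary quotient. -/
noncomputable def toCoprim (hM : Coh.IsCoh M) (x : X) : M ⟶ coprim M hM x :=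
  Abelian.factorThruImage (toSky M hM x)

instance (hM : Coh.IsCoh M) (x : X) : Epi (toCoprim M hM x) :=
  inferInstanceAs (Epi (Abelian.factorThruImage (toSky M hM x)))

theorem isCoh_coprim (hM : Coh.IsCoh M) (x : X) : Coh.IsCoh (coprim M hM x) :=
  QCoh.isCoh_of_epi (toCoprim M hM x) hM
    (QCoh.isQCoh_kernel (isQCoh_sky M hM x) (QCoh.isQCoh_cokernel hM.1 (isQCoh_sky M hM x) _) _)

theorem app_image_injective (hM : Coh.IsCoh M) (x : X) (U : X.Opens) :
    Function.Injective ((Abelian.image.ι (toSky M hM x)).app U) :=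
  QCoh.app_injective _ U

theorem ass_subset (hM : Coh.IsCoh M) (x : X) : AssSch.Ass (coprim M hM x) ⊆ {x} := by
  intro y hy
  obtain ⟨U, hU, hyU, -⟩ := exists_isAffineOpen_mem_and_subset (x := y) (U := (⊤ : X.Opens)) trivial
  haveI : IsNoetherianRing Γ(X, U) := IsLocallyNoetherian.component_noetherian ⟨U, hU⟩
  obtain ⟨hp, s, hs⟩ := isAssociatedPrime_iff.1 ((AssLib.mem_ass_iff (isCoh_coprim M hM x).1 hU hyU).1 hy)
  let φ := Abelian.image.ι (toSky M hM x)
  have hkill : ∀ r : Γ(X, U), r ∈ (hU.primeIdealOf ⟨y, hyU⟩).asIdeal ↔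
      ∀ h : PLift (x ∈ U), X.presheaf.germ U x h.down r • (φ.app U s h : primQuot M hM x) = 0 := fun r => by
    rw [hs, Submodule.mem_colon_singleton, Submodule.mem_bot]
    refine Iff.trans ?_ funext_iff
    rw [← (app_image_injective M hM x U).eq_iff, φ.app_smul, map_zero]
    rfl
  have hxU : x ∈ U := by
    by_contra hx
    exact hp.ne_top (eq_top_iff.2 fun r _ => (hkill r).2 fun h => absurd h.down hx)
  refine Set.mem_singleton_iff.2 (AssLib.eq_of_primeIdealOf_eq hU hxU hyU (le_antisymm ?_ ?_))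
  · intro r hr
    by_contra hrx
    have h0 := (hkill r).1 hr ⟨hxU⟩
    have hu : IsUnit (X.presheaf.germ U x hxU r) :=
      (X.mem_basicOpen r x hxU).1 ((QCoh.mem_basicOpen_iff_notMem hU hxU r).2 hrx)
    refine hp.ne_top (eq_top_iff.2 fun c _ => (hkill c).2 fun h => ?_)
    rw [show (φ.app U s h : primQuot M hM x) = 0 from hu.smul_eq_zero.1 h0, smul_zero]
  · intro r hr
    refine hp.mem_of_pow_mem (expo M hM x) ((hkill _).2 fun h => ?_)
    rw [map_pow]
    exact pow_smul_eq_zero M hM x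
      (fun hu => (QCoh.mem_basicOpen_iff_notMem hU hxU r).1 ((X.mem_basicOpen r x hxU).2 hu) hr) _

theorem ass_coprim (hM : Coh.IsCoh M) {x : X} (hx : x ∈ CohB1.support M) :
    AssSch.Ass (coprim M hM x) = {x} := by
  refine (ass_subset M hM x).antisymm (Set.singleton_subset_iff.2 ?_)
  have hsupp : ∃ z, z ∈ CohB1.support (coprim M hM x) := by
    by_contra hall
    push Not at hall
    obtain ⟨U, hU, hxU, -⟩ := exists_isAffineOpen_mem_and_subset (x := x) (U := (⊤ : X.Opens)) trivial
    haveI := QCoh.finite_stalk_of_isFT hM.1 hM.2 x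
    haveI : Nontrivial (M.presheaf.stalk x) := not_subsingleton_iff_nontrivial.1 hx
    haveI : Nontrivial (M.presheaf.stalk x ⧸ prim M hM x) := Submodule.Quotient.nontrivial_iff.2 fun htop =>
      (top_ne_bot : (⊤ : Submodule (X.presheaf.stalk x) (M.presheaf.stalk x)) ≠ ⊥)
        (Submodule.eq_bot_of_le_smul_of_le_jacobson_bot (maximalIdeal (X.presheaf.stalk x)) _ Module.Finite.fg_top
          (htop.ge.trans (Submodule.smul_mono_left (Ideal.pow_le_self (expo_spec M hM x).1.ne')))
          (IsLocalRing.maximalIdeal_le_jacobson _))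
    obtain ⟨v, hv⟩ := exists_ne (0 : M.presheaf.stalk x ⧸ prim M hM x)
    obtain ⟨v, rfl⟩ := (prim M hM x).mkQ_surjective v
    obtain ⟨W, hxW, s, rfl⟩ := TopCat.Presheaf.exists_germ_eq M.presheaf v
    have hz : (toCoprim M hM x).app W s = 0 := by
      refine TopCat.Presheaf.section_ext ⟨(coprim M hM x).presheaf, (coprim M hM x).isSheaf⟩ W _ _ fun z hz => ?_
      exact (not_not.1 (hall z)).elim _ _
    apply hv
    rw [← toSky_app M hM x hxW s, ← Abelian.image.fac (toSky M hM x)]
    show ((Abelian.image.ι (toSky M hM x)).app W ((toCoprim M hM x).app W s)) ⟨hxW⟩ = _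
    rw [hz, map_zero]
    rfl
  obtain ⟨z, hz⟩ := hsupp
  obtain ⟨y, hy, -⟩ := AssLib.exists_ass_specializes (isCoh_coprim M hM x).1 hz
  exact Set.mem_singleton_iff.1 (ass_subset M hM x hy) ▸ hy

/-- A section dying in all coprimary quotients is zero. -/
theorem eq_zero_of_coprim (hM : Coh.IsCoh M) {U : X.Opens} (hU : IsAffineOpen U) (s : Γ(M, U))
    (h : ∀ x ∈ AssSch.Ass M, (toCoprim M hM x).app U s = 0) : s = 0 := by
  by_contra hs
  haveI : IsNoetherianRing Γ(X, U) := IsLocallyNoetherian.component_noetherian ⟨U, hU⟩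
  haveI : Nontrivial (Submodule.span Γ(X, U) {s}) :=
    nontrivial_of_ne ⟨s, Submodule.mem_span_singleton_self s⟩ 0 fun e => hs (congrArg Subtype.val e)
  obtain ⟨P, hP⟩ := associatedPrimes.nonempty Γ(X, U) (Submodule.span Γ(X, U) {s})
  obtain ⟨hPp, ⟨t, ht⟩, hPt⟩ := isAssociatedPrime_iff.1 hP
  obtain ⟨a, rfl⟩ := Submodule.mem_span_singleton.1 ht
  obtain ⟨y, hyU, hy⟩ := QCoh.exists_point hU ⟨P, hPp⟩
  have hPM : IsAssociatedPrime P Γ(M, U) := hP.map_of_injective (f := (Submodule.span Γ(X, U) {s}).subtype) (Submodule.subtype_injective _)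
  have hya : y ∈ AssSch.Ass M := (AssLib.mem_ass_iff hM.1 hU hyU).2 (by rw [hy]; exact hPM)
  have hzero : (prim M hM y).mkQ (M.presheaf.germ U y hyU (a • s)) = 0 := by
    rw [← toSky_app M hM y hyU, ← Abelian.image.fac (toSky M hM y)]
    show ((Abelian.image.ι (toSky M hM y)).app U ((toCoprim M hM y).app U (a • s))) ⟨hyU⟩ = _
    rw [(toCoprim M hM y).app_smul, h y hya, smul_zero, map_zero]
    rfl
  rw [Submodule.mkQ_apply, Submodule.Quotient.mk_eq_zero] at hzero
  have hmem : ∀ r : Γ(X, U), r ∈ P → r • (a • s) = 0 := fun r hr => by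
    rw [hPt, Submodule.mem_colon_singleton, Submodule.mem_bot] at hr
    exact congrArg Subtype.val hr
  have hgerm : M.presheaf.germ U y hyU (a • s) = 0 := by
    refine (expo_spec M hM y).2 _ hzero fun r hr => ?_
    letI := QCoh.stalkAlg (X := X) hyU
    haveI := QCoh.isLocalization_stalk' hU hyU
    obtain ⟨⟨b, d⟩, hbd⟩ := IsLocalization.surj (hU.primeIdealOf ⟨y, hyU⟩).asIdeal.primeCompl r
    have hu : IsUnit (X.presheaf.germ U y hyU (d : Γ(X, U))) := IsLocalization.map_units (X.presheaf.stalk y) d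
    refine hu.smul_eq_zero.1 ?_
    rw [← mul_smul, mul_comm]
    show (r * algebraMap Γ(X, U) (X.presheaf.stalk y) d) • _ = 0
    rw [hbd]
    show X.presheaf.germ U y hyU b • _ = 0
    rw [← QCoh.germ_smul', hmem b ?_, map_zero]
    have hb : X.presheaf.germ U y hyU b ∈ maximalIdeal (X.presheaf.stalk y) := by
      show algebraMap Γ(X, U) (X.presheaf.stalk y) b ∈ _
      rw [← hbd]
      exact Ideal.mul_mem_right _ _ hr
    have hb' : b ∈ (hU.primeIdealOf ⟨y, hyU⟩).asIdeal := by
      rw [← AssLib.comap_maximalIdeal_stalk hU hyU]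
      exact hb
    rwa [hy] at hb'
  obtain ⟨f, hyf, hf⟩ := (QCoh.germ_eq_zero_iff hM.1 hU hyU _).1 hgerm
  refine (QCoh.mem_basicOpen_iff_notMem hU hyU f).1 hyf ?_
  rw [hy]
  show f ∈ P
  rw [hPt, Submodule.mem_colon_singleton, Submodule.mem_bot]
  exact Subtype.ext hf

theorem eq_zero_of_comp (hM : Coh.IsCoh M) {T : X.Modules} (d : T ⟶ M)
    (h : ∀ x ∈ AssSch.Ass M, d ≫ toCoprim M hM x = 0) : d = 0 := by
  refine Scheme.Modules.hom_ext _ _ fun U => ?_
  ext t
  refine TopCat.Presheaf.section_ext ⟨M.presheaf, M.isSheaf⟩ U _ _ fun z hz => ?_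
  obtain ⟨V, hV, hzV, hVU⟩ := exists_isAffineOpen_mem_and_subset (x := z) (U := U) hz
  have h0 : d.app V (T.presheaf.map (homOfLE hVU).op t) = 0 := by
    refine eq_zero_of_coprim M hM hV _ fun x hx => ?_
    show (d ≫ toCoprim M hM x).app V _ = 0
    rw [h x hx]
    rfl
  have hn := ConcreteCategory.congr_hom (d.mapPresheaf.naturality (homOfLE hVU).op) t
  have hV0 : M.presheaf.map (homOfLE hVU).op (d.app U t) = 0 := hn.symm.trans h0
  rw [← M.presheaf.germ_res_apply (homOfLE hVU) z hzV]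
  refine (congrArg (M.presheaf.germ V z hzV) hV0).trans ?_
  rw [map_zero]
  exact (map_zero _).symm

end Groth.Agent.AssLib2
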