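import Groth.Agent.AssLib2.Coprimary
import Groth.Agent.AssPtX.Noeth
import Mathlib.CategoryTheory.Subobject.Lattice

/-!
# Coprimary filtrations
-/

set_option autoImplicit false
set_option linter.style.haveILetI false
set_option backward.isDefEq.respectTransparency false
set_option backward.isDefEq.respectTransparency.types false

universe u

open AlgebraicGeometry CategoryTheory Limits

namespace Groth.Agent.AssLib2

variable {X : Scheme.{u}}

theorem ass_subset_of_mono {M N : X.Modules} (φ : M ⟶ N) [Mono φ] : AssSch.Ass M ⊆ AssSch.Ass N := fun x hx =>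
  hx.map_of_injective (f := ((DerSch.stalkFunctor X x).map φ).hom)
    ((ModuleCat.mono_iff_injective _).1 (Functor.map_mono _ _))

theorem isCoh_of_iso [IsLocallyNoetherian X] {M N : X.Modules} (e : M ≅ N) (h : Coh.IsCoh M) : Coh.IsCoh N :=
  QCoh.isCoh_of_epi e.hom h ((SheafOfModules.isQuasicoherent X.ringCatSheaf).prop_of_iso e h.1)

variable [IsLocallyNoetherian X] (M : X.Modules)

/-- Intersection with the kernel of the projection to a coprimary quotient. -/
noncomputable def stepSub (hM : Coh.IsCoh M) (x : X) (S : Subobject M) : Subobject M :=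
  Subobject.mk (kernel.ι (S.arrow ≫ toCoprim M hM x) ≫ S.arrow)

theorem stepSub_le (hM : Coh.IsCoh M) (x : X) (S : Subobject M) : stepSub M hM x S ≤ S :=
  Subobject.mk_le_of_comm _ rfl

/-- The iterated intersections along a sequence of points. -/
noncomputable def filt (hM : Coh.IsCoh M) (l : ℕ → X) : ℕ → Subobject M
  | 0 => ⊤
  | j + 1 => stepSub M hM (l j) (filt hM l j)

theorem isCoh_filt (hM : Coh.IsCoh M) (l : ℕ → X) : ∀ j, Coh.IsCoh ((filt M hM l j : Subobject M) : X.Modules)
  | 0 => isCoh_of_iso (asIso (⊤ : Subobject M).arrow).symm hM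
  | j + 1 => isCoh_of_iso (Subobject.underlyingIso _).symm
      (QCoh.isCoh_kernel (isCoh_filt hM l j) (isCoh_coprim M hM (l j)) _)

theorem filt_comp_zero (hM : Coh.IsCoh M) (l : ℕ → X) {i : ℕ} :
    ∀ {j : ℕ}, i < j → (filt M hM l j).arrow ≫ toCoprim M hM (l i) = 0
  | j + 1, h => by
    rcases Nat.lt_succ_iff_lt_or_eq.1 h with h | rfl
    · show (stepSub M hM (l j) (filt M hM l j)).arrow ≫ _ = 0
      rw [← Subobject.ofLE_arrow (stepSub_le M hM (l j) (filt M hM l j)),
        Category.assoc, filt_comp_zero hM l h, comp_zero]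
    · show (stepSub M hM (l i) (filt M hM l i)).arrow ≫ _ = 0
      rw [stepSub, ← Subobject.underlyingIso_hom_comp_eq_mk, Category.assoc, Category.assoc, kernel.condition, comp_zero]

theorem filt_last (hM : Coh.IsCoh M) (l : ℕ → X) {n : ℕ} (h : ∀ x ∈ AssSch.Ass M, ∃ i < n, l i = x) :
    filt M hM l n = ⊥ := by
  have h0 : (filt M hM l n).arrow = 0 := eq_zero_of_comp M hM _ fun x hx => by
    obtain ⟨i, hi, rfl⟩ := h x hx
    exact filt_comp_zero M hM l hi
  rw [← Subobject.mk_arrow (filt M hM l n)]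
  exact Subobject.mk_eq_bot_iff_zero.2 h0

/-- The successive quotients are zero or coprimary. -/
theorem filt_quot (hM : Coh.IsCoh M) (x : X) (S : Subobject M) (hS : Coh.IsCoh (S : X.Modules))
    (h : stepSub M hM x S ≤ S) :
    IsZero (cokernel (Subobject.ofLE (stepSub M hM x S) S h)) ∨
      AssSch.Ass (cokernel (Subobject.ofLE (stepSub M hM x S) S h)) = {x} := by
  let φ := S.arrow ≫ toCoprim M hM x
  have hk : Subobject.ofLE (stepSub M hM x S) S h = (Subobject.underlyingIso _).hom ≫ kernel.ι φ := by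
    rw [← cancel_mono S.arrow, Subobject.ofLE_arrow, Category.assoc]
    exact (Subobject.underlyingIso_hom_comp_eq_mk _).symm
  let C := cokernel (Subobject.ofLE (stepSub M hM x S) S h)
  let e : C ≅ Abelian.coimage φ := cokernelIsoOfEq hk ≪≫ cokernelEpiComp _ _
  let ψ : C ⟶ coprim M hM x := e.hom ≫ (Abelian.coimageIsoImage φ).hom ≫ Abelian.image.ι φ
  haveI : Mono ψ := mono_comp _ _
  have hsub : AssSch.Ass C ⊆ {x} := (ass_subset_of_mono ψ).trans (ass_subset M hM x)
  have hC : Coh.IsCoh C := by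
    refine QCoh.isCoh_cokernel ?_ hS _
    exact (isCoh_of_iso (Subobject.underlyingIso _).symm (QCoh.isCoh_kernel hS (isCoh_coprim M hM x) φ)).1
  by_cases hne : ∃ y, y ∈ AssSch.Ass C
  · obtain ⟨y, hy⟩ := hne
    exact Or.inr (hsub.antisymm (Set.singleton_subset_iff.2 (Set.mem_singleton_iff.1 (hsub hy) ▸ hy)))
  · push Not at hne
    exact Or.inl ((AssPtX.isZero_iff hC.1).2 fun y hy => hne y (AssPtX.isAssPoint_iff.2 hy))

theorem finite_ass [CompactSpace X] (hM : Coh.IsCoh M) : (AssSch.Ass M).Finite :=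
  (AssPtX.finite_assPoints hM (U := ⊤) (isCompact_univ (X := X))).subset fun _ hx => ⟨trivial, hx⟩

end Groth.Agent.AssLib2
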