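import Groth.Agent.AssLib2.Algebra
import Groth.Agent.AssLib.FlatFibre
import Groth.Agent.KFlatLib.Scheme.TensorStalk
import Groth.Agent.KFlatLib.Scheme.Pullback
import Groth.Agent.KFlatLib.Perfect.LocFree
import Groth.Agent.Codepth5.Scheme
import Groth.Agent.MorLib.FlatBC
import Groth.Prelude.Def_CohB1

/-!
# Associated points of tensor products on schemes
-/

set_option autoImplicit false
set_option linter.style.haveILetI false
set_option backward.isDefEq.respectTransparency false
set_option backward.isDefEq.respectTransparency.types false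

universe u

open AlgebraicGeometry CategoryTheory Limits IsLocalRing MonoidalCategory
open scoped TensorProduct

namespace Groth.Agent.AssLib2

variable {X W : Scheme.{u}}

theorem mem_ass_iff_soc (M : X.Modules) (x : X) [IsNoetherianRing (X.presheaf.stalk x)] :
    x ∈ AssSch.Ass M ↔ Soc (X.presheaf.stalk x) (M.presheaf.stalk x) :=
  (soc_iff_ass (T := X.presheaf.stalk x) (V := M.presheaf.stalk x)).symm

theorem ass_congr {M M' : X.Modules} (e : M ≅ M') : AssSch.Ass M = AssSch.Ass M' := by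
  ext x
  exact (((DerSch.stalkFunctor X x).mapIso e).toLinearEquiv).isAssociatedPrime_iff

theorem nonempty_stalkUnit (x : X) :
    Nonempty (X.presheaf.stalk x ≃ₗ[X.presheaf.stalk x] (Coh.structureModule X).presheaf.stalk x) :=
  ⟨KFlatLib.stalkUnitEquiv x⟩

/-- The stalk of a tensor product. -/
noncomputable def tensorModStalkEquiv (A B : X.Modules) (x : X) :
    A.presheaf.stalk x ⊗[X.presheaf.stalk x] B.presheaf.stalk x ≃ₗ[X.presheaf.stalk x]
      (CohB1.tensorMod A B).presheaf.stalk x :=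
  (KFlatLib.stalkTensorIso x A B).toLinearEquiv

section Pull

variable (p : W ⟶ X) (z : W)

/-- The stalk of `p^* F ⊗ G`. -/
theorem nonempty_stalk_pullback_tensor (F : X.Modules) (G : W.Modules) :
    letI := (p.stalkMap z).hom.toAlgebra
    letI := FlatMod.moduleStalkOver p G z
    haveI : IsScalarTower (X.presheaf.stalk (p z)) (W.presheaf.stalk z) (G.presheaf.stalk z) :=
      IsScalarTower.of_algebraMap_smul fun _ _ => rfl
    Nonempty ((G.presheaf.stalk z ⊗[X.presheaf.stalk (p z)] F.presheaf.stalk (p z)) ≃ₗ[W.presheaf.stalk z]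
      (CohB1.tensorMod ((Scheme.Modules.pullback p).obj F) G).presheaf.stalk z) := by
  letI := (p.stalkMap z).hom.toAlgebra
  letI := FlatMod.moduleStalkOver p G z
  haveI : IsScalarTower (X.presheaf.stalk (p z)) (W.presheaf.stalk z) (G.presheaf.stalk z) :=
    IsScalarTower.of_algebraMap_smul fun _ _ => rfl
  let e₀ : ((Scheme.Modules.pullback p).obj F).presheaf.stalk z ≃ₗ[W.presheaf.stalk z]
      W.presheaf.stalk z ⊗[X.presheaf.stalk (p z)] F.presheaf.stalk (p z) :=
    ((KFlatLib.stalkPullbackIso p z).app F).toLinearEquiv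
  exact ⟨(TensorProduct.AlgebraTensorModule.cancelBaseChange (X.presheaf.stalk (p z)) (W.presheaf.stalk z)
      (W.presheaf.stalk z) (G.presheaf.stalk z) (F.presheaf.stalk (p z))).symm ≪≫ₗ
    (TensorProduct.congr (LinearEquiv.refl _ _) e₀.symm) ≪≫ₗ TensorProduct.comm _ _ _ ≪≫ₗ
    tensorModStalkEquiv _ G z⟩

/-- The stalk of a fibre of a module. -/
theorem exists_fibre_equiv (G : W.Modules) (s : X) (w : ↥(p.fiber s)) (hw : p.fiberι s w = z) :
    ∃ (σ : W.presheaf.stalk z →+* (p.fiber s).presheaf.stalk w) (_ : Function.Surjective σ)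
      (e : (G.presheaf.stalk z ⧸ (Codepth5.fibIdeal p z • ⊤ : Submodule (W.presheaf.stalk z) (G.presheaf.stalk z))) ≃+
        ((Scheme.Modules.pullback (p.fiberι s)).obj G).presheaf.stalk w),
      ∀ r v, e (r • v) = σ r • e v := by
  subst hw
  let ι := p.fiberι s
  let O := W.presheaf.stalk (ι w)
  let σ : O →+* (p.fiber s).presheaf.stalk w := (ι.stalkMap w).hom
  letI : Algebra O ((p.fiber s).presheaf.stalk w) := σ.toAlgebra
  have hσ : Function.Surjective σ := ι.stalkMap_surjective w
  let J : Ideal O := Codepth5.fibIdeal p (ι w)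
  have hJ : RingHom.ker σ = J := FlatDvr.ker_stalkMap_fiberι p w
  let e₀ : ((Scheme.Modules.pullback ι).obj G).presheaf.stalk w ≃ₗ[(p.fiber s).presheaf.stalk w]
      TensorProduct O ((p.fiber s).presheaf.stalk w) (G.presheaf.stalk (ι w)) :=
    ((KFlatLib.stalkPullbackIso ι w).app G).toLinearEquiv
  let e₁ : (O ⧸ J) ≃ₗ[O] (p.fiber s).presheaf.stalk w :=
    (Submodule.quotEquivOfEq J (LinearMap.ker (Algebra.linearMap O ((p.fiber s).presheaf.stalk w))) hJ.symm) ≪≫ₗ
      (Algebra.linearMap O ((p.fiber s).presheaf.stalk w)).quotKerEquivOfSurjective hσ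
  let e₂ := (TensorProduct.quotTensorEquivQuotSMul (G.presheaf.stalk (ι w)) J).symm ≪≫ₗ
    TensorProduct.congr e₁ (LinearEquiv.refl O (G.presheaf.stalk (ι w)))
  refine ⟨σ, hσ, e₂.toAddEquiv.trans e₀.symm.toAddEquiv, fun r x => ?_⟩
  show e₀.symm (e₂ (r • x)) = σ r • e₀.symm (e₂ x)
  rw [e₂.map_smul, show r • e₂ x = σ r • e₂ x from (algebraMap_smul ((p.fiber s).presheaf.stalk w) r (e₂ x)).symm,
    e₀.symm.map_smul]

theorem isNoetherianRing_stalk_fibre (s : X) (w : ↥(p.fiber s)) [IsNoetherianRing (W.presheaf.stalk (p.fiberι s w))] :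
    IsNoetherianRing ((p.fiber s).presheaf.stalk w) :=
  isNoetherianRing_of_surjective _ _ ((p.fiberι s).stalkMap w).hom ((p.fiberι s).stalkMap_surjective w)

theorem mem_ass_fibre_iff (G : W.Modules) (s : X) (w : ↥(p.fiber s)) (hw : p.fiberι s w = z)
    [IsNoetherianRing (W.presheaf.stalk z)] :
    w ∈ AssSch.Ass ((Scheme.Modules.pullback (p.fiberι s)).obj G) ↔
      Soc (W.presheaf.stalk z)
        (G.presheaf.stalk z ⧸ (Codepth5.fibIdeal p z • ⊤ : Submodule (W.presheaf.stalk z) (G.presheaf.stalk z))) := by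
  obtain ⟨σ, hσ, e, he⟩ := exists_fibre_equiv p z G s w hw
  haveI := isNoetherianRing_of_surjective _ _ σ hσ
  rw [mem_ass_iff_soc]
  exact (soc_of_semilinear σ hσ e he).symm

/-- Associated points of `p^* F ⊗ G` with `G` flat over the base of `p`. -/
theorem mem_ass_tensor_iff (F : X.Modules) (G : W.Modules) (s : X) (w : ↥(p.fiber s))
    [IsNoetherianRing (W.presheaf.stalk (p.fiberι s w))] [IsNoetherianRing (X.presheaf.stalk (p (p.fiberι s w)))]
    (hG : FlatMod.IsFlatOverAt p G (p.fiberι s w)) :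
    p.fiberι s w ∈ AssSch.Ass (CohB1.tensorMod ((Scheme.Modules.pullback p).obj F) G) ↔
      s ∈ AssSch.Ass F ∧ w ∈ AssSch.Ass ((Scheme.Modules.pullback (p.fiberι s)).obj G) := by
  rw [mem_ass_fibre_iff p _ G s w rfl, mem_ass_iff_soc,
    show (s ∈ AssSch.Ass F ↔ p (p.fiberι s w) ∈ AssSch.Ass F) from
      (congrArg (· ∈ AssSch.Ass F) (FibDim.fiber_apply_fiberι p w).symm).to_iff, mem_ass_iff_soc]
  set z := p.fiberι s w
  letI := (p.stalkMap z).hom.toAlgebra
  letI := FlatMod.moduleStalkOver p G z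
  haveI : IsScalarTower (X.presheaf.stalk (p z)) (W.presheaf.stalk z) (G.presheaf.stalk z) :=
    IsScalarTower.of_algebraMap_smul fun _ _ => rfl
  haveI : IsLocalHom (algebraMap (X.presheaf.stalk (p z)) (W.presheaf.stalk z)) :=
    inferInstanceAs (IsLocalHom (p.stalkMap z).hom)
  haveI : Module.Flat (X.presheaf.stalk (p z)) (G.presheaf.stalk z) := hG
  obtain ⟨e⟩ := nonempty_stalk_pullback_tensor p z F G
  rw [← soc_of_semilinear (RingHom.id _) Function.surjective_id e.toAddEquiv (fun r v => e.map_smul r v)]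
  exact soc_tensor_iff

/-- Associated points of a flat module. -/
theorem mem_ass_flat_iff (G : W.Modules) (s : X) (w : ↥(p.fiber s))
    [IsNoetherianRing (W.presheaf.stalk (p.fiberι s w))] [IsNoetherianRing (X.presheaf.stalk (p (p.fiberι s w)))]
    (hG : FlatMod.IsFlatOverAt p G (p.fiberι s w)) :
    p.fiberι s w ∈ AssSch.Ass G ↔
      s ∈ AssSch.Ass (Coh.structureModule X) ∧ w ∈ AssSch.Ass ((Scheme.Modules.pullback (p.fiberι s)).obj G) := by
  rw [mem_ass_fibre_iff p _ G s w rfl, mem_ass_iff_soc,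
    show (s ∈ AssSch.Ass (Coh.structureModule X) ↔ p (p.fiberι s w) ∈ AssSch.Ass (Coh.structureModule X)) from
      (congrArg (· ∈ AssSch.Ass (Coh.structureModule X)) (FibDim.fiber_apply_fiberι p w).symm).to_iff, mem_ass_iff_soc]
  set z := p.fiberι s w
  letI := (p.stalkMap z).hom.toAlgebra
  letI := FlatMod.moduleStalkOver p G z
  haveI : IsScalarTower (X.presheaf.stalk (p z)) (W.presheaf.stalk z) (G.presheaf.stalk z) :=
    IsScalarTower.of_algebraMap_smul fun _ _ => rfl
  haveI : IsLocalHom (algebraMap (X.presheaf.stalk (p z)) (W.presheaf.stalk z)) :=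
    inferInstanceAs (IsLocalHom (p.stalkMap z).hom)
  haveI : Module.Flat (X.presheaf.stalk (p z)) (G.presheaf.stalk z) := hG
  obtain ⟨u⟩ := nonempty_stalkUnit (X := X) (p z)
  let e : (G.presheaf.stalk z ⊗[X.presheaf.stalk (p z)] X.presheaf.stalk (p z)) ≃ₗ[W.presheaf.stalk z] G.presheaf.stalk z :=
    TensorProduct.AlgebraTensorModule.rid _ _ _
  rw [← soc_of_semilinear (RingHom.id _) Function.surjective_id e.toAddEquiv (fun r v => e.map_smul r v),
    ← soc_of_semilinear (RingHom.id _) Function.surjective_id u.toAddEquiv (fun r v => u.map_smul r v)]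
  exact soc_tensor_iff

/-- Associated points of a flat inverse image. -/
theorem mem_ass_pullback_iff [Flat p] (E : X.Modules) (s : X) (w : ↥(p.fiber s))
    [IsNoetherianRing (W.presheaf.stalk (p.fiberι s w))] [IsNoetherianRing (X.presheaf.stalk (p (p.fiberι s w)))] :
    p.fiberι s w ∈ AssSch.Ass ((Scheme.Modules.pullback p).obj E) ↔
      s ∈ AssSch.Ass E ∧ w ∈ AssSch.Ass (Coh.structureModule (p.fiber s)) := by
  obtain ⟨σ, hσ, hker⟩ : ∃ (σ : W.presheaf.stalk (p.fiberι s w) →+* (p.fiber s).presheaf.stalk w),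
      Function.Surjective σ ∧ RingHom.ker σ = Codepth5.fibIdeal p (p.fiberι s w) :=
    ⟨_, (p.fiberι s).stalkMap_surjective w, FlatDvr.ker_stalkMap_fiberι p w⟩
  haveI := isNoetherianRing_of_surjective _ _ σ hσ
  obtain ⟨u⟩ := nonempty_stalkUnit (X := p.fiber s) w
  rw [mem_ass_iff_soc, mem_ass_iff_soc (Coh.structureModule _),
    ← soc_of_semilinear (RingHom.id _) Function.surjective_id u.toAddEquiv (fun r v => u.map_smul r v),
    show (s ∈ AssSch.Ass E ↔ p (p.fiberι s w) ∈ AssSch.Ass E) from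
      (congrArg (· ∈ AssSch.Ass E) (FibDim.fiber_apply_fiberι p w).symm).to_iff, mem_ass_iff_soc]
  let z := p.fiberι s w
  let B := (p.fiber s).presheaf.stalk w
  letI := (p.stalkMap z).hom.toAlgebra
  haveI : IsLocalHom (algebraMap (X.presheaf.stalk (p z)) (W.presheaf.stalk z)) :=
    inferInstanceAs (IsLocalHom (p.stalkMap z).hom)
  haveI : Module.Flat (X.presheaf.stalk (p z)) (W.presheaf.stalk z) := Flat.stalkMap p z
  let e₀ : ((Scheme.Modules.pullback p).obj E).presheaf.stalk z ≃ₗ[W.presheaf.stalk z]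
      W.presheaf.stalk z ⊗[X.presheaf.stalk (p z)] E.presheaf.stalk (p z) :=
    ((KFlatLib.stalkPullbackIso p z).app E).toLinearEquiv
  have hI : ((maximalIdeal (X.presheaf.stalk (p z))).map (algebraMap (X.presheaf.stalk (p z)) (W.presheaf.stalk z)) • ⊤ :
      Submodule (W.presheaf.stalk z) (W.presheaf.stalk z)) = RingHom.ker σ := by
    rw [hker, smul_eq_mul, Ideal.mul_top]
    rfl
  let e₁ : (W.presheaf.stalk z ⧸ ((maximalIdeal (X.presheaf.stalk (p z))).map
      (algebraMap (X.presheaf.stalk (p z)) (W.presheaf.stalk z)) • ⊤ :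
      Submodule (W.presheaf.stalk z) (W.presheaf.stalk z))) ≃+ B :=
    AddEquiv.trans (Submodule.quotEquivOfEq _ _ hI).toAddEquiv (RingHom.quotientKerEquivOfSurjective hσ).toAddEquiv
  rw [soc_of_semilinear (RingHom.id _) Function.surjective_id e₀.toAddEquiv (fun r v => e₀.map_smul r v),
    ← soc_of_semilinear σ hσ e₁ (fun r v => ?_)]
  · exact soc_tensor_iff
  · obtain ⟨v, rfl⟩ := Submodule.Quotient.mk_surjective _ v
    exact map_mul σ r v

end Pull

end Groth.Agent.AssLib2
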