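import Groth.Agent.AssLib2.Scheme
import Groth.Agent.DimFormula.Stalk
import Groth.Agent.QCoh.Pullback
import Groth.Agent.QCoh.Support
import Groth.Agent.S2297
import Groth.Agent.KFlatLib.Scheme.QCohTensor

/-!
# Associated points of `f^*E ⊗ F` for `F` flat
-/

set_option autoImplicit false
set_option linter.style.haveILetI false
set_option backward.isDefEq.respectTransparency false
set_option backward.isDefEq.respectTransparency.types false

universe u

open AlgebraicGeometry CategoryTheory IsLocalRing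

namespace Groth.Agent.AssLib2

variable {X Y : Scheme.{u}}

theorem primeIdealOf_fromSpecStalk {U : X.Opens} (hU : IsAffineOpen U) {x : X} (hx : x ∈ U)
    (P : PrimeSpectrum (X.presheaf.stalk x)) :
    ∃ hy : X.fromSpecStalk x P ∈ U, (hU.primeIdealOf ⟨X.fromSpecStalk x P, hy⟩).asIdeal =
      P.asIdeal.comap (X.presheaf.germ U x hx).hom := by
  have h1 : X.fromSpecStalk x P = hU.fromSpec (PrimeSpectrum.comap (X.presheaf.germ U x hx).hom P) := by
    rw [← hU.fromSpecStalk_eq_fromSpecStalk hx]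
    rfl
  have hy : X.fromSpecStalk x P ∈ U := h1 ▸ ((Set.ext_iff.1 hU.range_fromSpec _).1 (Set.mem_range_self _))
  refine ⟨hy, ?_⟩
  rw [show hU.primeIdealOf ⟨_, hy⟩ = PrimeSpectrum.comap (X.presheaf.germ U x hx).hom P from
    hU.fromSpec.isOpenEmbedding.injective ((hU.fromSpec_primeIdealOf ⟨_, hy⟩).trans h1)]
  rfl

theorem fromSpecStalk_mem_ass [IsLocallyNoetherian X] {M : X.Modules} (hM : Coh.IsQCoh M) {x : X}
    {P : Ideal (X.presheaf.stalk x)} (hP : IsAssociatedPrime P (M.presheaf.stalk x)) :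
    X.fromSpecStalk x ⟨P, hP.isPrime⟩ ∈ AssSch.Ass M := by
  obtain ⟨U, hU, hxU, -⟩ := exists_isAffineOpen_mem_and_subset (x := x) (U := (⊤ : X.Opens)) trivial
  obtain ⟨y, hyU, hy, -, he⟩ := AssLib.exists_point_of_ass_stalk hM hU hxU hP
  obtain ⟨hy', he'⟩ := primeIdealOf_fromSpecStalk hU hxU ⟨P, hP.isPrime⟩
  rwa [← AssLib.eq_of_primeIdealOf_eq hU hy' hyU (he.trans he'.symm)]

theorem exists_prime_of_ass [IsLocallyNoetherian X] {M : X.Modules} (hM : Coh.IsQCoh M) {y y' : X}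
    (hy' : y' ∈ AssSch.Ass M) (h : y' ⤳ y) :
    ∃ (q : Ideal (X.presheaf.stalk y)) (hq : IsAssociatedPrime q (M.presheaf.stalk y)),
      X.fromSpecStalk y ⟨q, hq.isPrime⟩ = y' := by
  obtain ⟨q, rfl⟩ := DimFormula.fromSpecStalk_range_of_specializes h
  refine ⟨q.asIdeal, ?_, rfl⟩
  obtain ⟨U, hU, hxU, -⟩ := exists_isAffineOpen_mem_and_subset (x := y) (U := (⊤ : X.Opens)) trivial
  obtain ⟨hy, he⟩ := primeIdealOf_fromSpecStalk hU hxU q
  have hq := (AssLib.mem_ass_iff hM hU hy).1 hy'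
  rw [he] at hq
  letI := QCoh.stalkAlg (X := X) hxU
  letI := QCoh.stalkModule M hxU
  haveI := QCoh.isScalarTower_stalk M hxU
  haveI := QCoh.isLocalization_stalk' hU hxU
  haveI := QCoh.isLocalizedModule_germLin hM hU hxU
  haveI : IsNoetherianRing Γ(X, U) := IsLocallyNoetherian.component_noetherian ⟨U, hU⟩
  rw [← AssociatedPrimes.mem_iff,
    ← Module.associatedPrimes.preimage_comap_associatedPrimes_eq_associatedPrimes_of_isLocalizedModule
      (hU.primeIdealOf ⟨y, hxU⟩).asIdeal.primeCompl (X.presheaf.stalk y) (QCoh.germLin M hxU), Set.mem_preimage]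
  exact hq

variable (f : X ⟶ Y) {E : Y.Modules} {F : X.Modules}

/-- Over an associated point of `E` generizing `f x` there is an associated point of `f^*E ⊗ F`. -/
theorem exists_ass_tensor_over [IsLocallyNoetherian X] [IsLocallyNoetherian Y] (hE : Coh.IsQCoh E)
    (hF : Coh.IsCoh F) {x : X} (hflat : FlatMod.IsFlatOverAt f F x) (hx : x ∈ CohB1.support F) {y' : Y}
    (hy' : y' ∈ AssSch.Ass E) (h : y' ⤳ f x) :
    ∃ z, z ⤳ x ∧ f z = y' ∧ z ∈ AssSch.Ass (CohB1.tensorMod ((Scheme.Modules.pullback f).obj E) F) := by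
  obtain ⟨q, hq, rfl⟩ := exists_prime_of_ass hE hy' h
  letI := (f.stalkMap x).hom.toAlgebra
  letI := FlatMod.moduleStalkOver f F x
  haveI : IsScalarTower (Y.presheaf.stalk (f x)) (X.presheaf.stalk x) (F.presheaf.stalk x) :=
    IsScalarTower.of_algebraMap_smul fun _ _ => rfl
  haveI : IsLocalHom (algebraMap (Y.presheaf.stalk (f x)) (X.presheaf.stalk x)) :=
    inferInstanceAs (IsLocalHom (f.stalkMap x).hom)
  haveI : Module.Flat (Y.presheaf.stalk (f x)) (F.presheaf.stalk x) := hflat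
  haveI := QCoh.finite_stalk_of_isFT hF.1 hF.2 x
  haveI : Nontrivial (F.presheaf.stalk x) := not_subsingleton_iff_nontrivial.1 hx
  obtain ⟨e⟩ := nonempty_stalk_pullback_tensor f x E F
  obtain ⟨P, hP, hcomap⟩ := exists_ass_over (T := X.presheaf.stalk x) (N := F.presheaf.stalk x) hq
  have hP' : IsAssociatedPrime P ((CohB1.tensorMod ((Scheme.Modules.pullback f).obj E) F).presheaf.stalk x) :=
    e.isAssociatedPrime_iff.1 hP
  refine ⟨X.fromSpecStalk x ⟨P, hP.isPrime⟩, DimFormula.fromSpecStalk_specializes x _, ?_,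
    fromSpecStalk_mem_ass (KFlatLib.isQCoh_tensor (QCoh.isQCoh_pullback f hE) hF.1) hP'⟩
  rw [← DimFormula.fromSpecStalk_comm f x ⟨P, hP.isPrime⟩]
  exact congrArg (Y.fromSpecStalk (f x)) (PrimeSpectrum.ext hcomap)

theorem mem_support_of_ass_fibre [IsLocallyNoetherian X] (F : X.Modules) (s : Y) (w : ↥(f.fiber s))
    (hw : w ∈ AssSch.Ass ((Scheme.Modules.pullback (f.fiberι s)).obj F)) :
    f.fiberι s w ∈ CohB1.support F := fun hs => by
  haveI : Subsingleton (F.presheaf.stalk (f.fiberι s w)) := hs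
  obtain ⟨v, hv, -⟩ := (mem_ass_fibre_iff f _ F s w rfl).1 hw
  exact hv (Subsingleton.elim v 0)

/-- `f^*E ⊗ F` has no embedded points iff. -/
theorem noEmbedded_tensor_iff [IsLocallyNoetherian X] [IsLocallyNoetherian Y] (hE : Coh.IsQCoh E)
    (hF : Coh.IsCoh F) (hflat : FlatMod.IsFlatOver f F) :
    AssSch.NoEmbedded (CohB1.tensorMod ((Scheme.Modules.pullback f).obj E) F) ↔
      ∀ y ∈ AssSch.Ass E ∩ f.base '' CohB1.support F,
        (∀ y' ∈ AssSch.Ass E, y' ⤳ y → y' = y) ∧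
          AssSch.NoEmbedded ((Scheme.Modules.pullback (f.fiberι y)).obj F) := by
  constructor
  · rintro h y ⟨hy, x, hx, rfl⟩
    refine ⟨fun y' hy' hsp => ?_, fun a ha b hb hba => ?_⟩
    · obtain ⟨z₀, -, hfz₀, hz₀⟩ := exists_ass_tensor_over f hE hF (hflat x) hx hy specializes_rfl
      have hz₀s : z₀ ∈ CohB1.support F := by
        obtain ⟨w, rfl⟩ : z₀ ∈ Set.range (f.fiberι (f.base x)) := by rw [Scheme.Hom.range_fiberι]; exact hfz₀
        exact mem_support_of_ass_fibre f F _ w ((mem_ass_tensor_iff f E F _ w (hflat _)).1 hz₀).2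
      obtain ⟨z, hzz₀, hfz, hz⟩ := exists_ass_tensor_over f hE hF (hflat z₀) hz₀s hy' (hfz₀ ▸ hsp)
      rw [← hfz, ← h z₀ hz₀ z hz hzz₀]
      exact hfz₀
    · exact (f.fiberι (f.base x)).isEmbedding.injective
        (h _ ((mem_ass_tensor_iff f E F _ a (hflat _)).2 ⟨hy, ha⟩)
          _ ((mem_ass_tensor_iff f E F _ b (hflat _)).2 ⟨hy, hb⟩) (hba.map (f.fiberι (f.base x)).continuous))
  · intro h z hz z' hz' hsp
    obtain ⟨y, hydef⟩ : ∃ y, y = f z := ⟨_, rfl⟩
    obtain ⟨w, rfl⟩ : z ∈ Set.range (f.fiberι y) := by rw [Scheme.Hom.range_fiberι]; exact hydef.symm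
    obtain ⟨y', hy'def⟩ : ∃ y', y' = f z' := ⟨_, rfl⟩
    obtain ⟨w', rfl⟩ : z' ∈ Set.range (f.fiberι y') := by rw [Scheme.Hom.range_fiberι]; exact hy'def.symm
    obtain ⟨hy, hw⟩ := (mem_ass_tensor_iff f E F y w (hflat _)).1 hz
    obtain ⟨hy', hw'⟩ := (mem_ass_tensor_iff f E F y' w' (hflat _)).1 hz'
    obtain ⟨hmax, hne⟩ := h y ⟨hy, _, mem_support_of_ass_fibre f F y w hw, hydef.symm⟩
    obtain rfl : y' = y := hmax y' hy' (hy'def ▸ hydef ▸ hsp.map f.continuous)
    rw [hne w hw w' hw' ((f.fiberι y').isEmbedding.isInducing.specializes_iff.1 hsp)]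

/-- Length one at an associated point. -/
theorem length_tensor_iff [IsLocallyNoetherian X] [IsLocallyNoetherian Y] (hE : Coh.IsCoh E) (hF : Coh.IsCoh F)
    (hflat : FlatMod.IsFlatOver f F) (s : Y) (w : ↥(f.fiber s))
    (hs : s ∈ AssSch.Ass E) (hw : w ∈ AssSch.Ass ((Scheme.Modules.pullback (f.fiberι s)).obj F)) :
    Module.length (X.presheaf.stalk (f.fiberι s w))
        ((CohB1.tensorMod ((Scheme.Modules.pullback f).obj E) F).presheaf.stalk (f.fiberι s w)) = 1 ↔
      Module.length (Y.presheaf.stalk s) (E.presheaf.stalk s) = 1 ∧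
        Module.length ((f.fiber s).presheaf.stalk w)
          (((Scheme.Modules.pullback (f.fiberι s)).obj F).presheaf.stalk w) = 1 := by
  have hfs : f (f.fiberι s w) = s := FibDim.fiber_apply_fiberι f w
  have hs' : f (f.fiberι s w) ∈ AssSch.Ass E := (congrArg (· ∈ AssSch.Ass E) hfs).mpr hs
  rw [← congrArg (fun t => Module.length (Y.presheaf.stalk t) (E.presheaf.stalk t)) hfs]
  obtain ⟨σ, hσ, e', he'⟩ := exists_fibre_equiv f _ F s w rfl
  rw [← length_of_semilinear σ hσ e' he']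
  have hsupp := mem_support_of_ass_fibre f F s w hw
  let z := f.fiberι s w
  letI := (f.stalkMap z).hom.toAlgebra
  letI := FlatMod.moduleStalkOver f F z
  haveI : IsScalarTower (Y.presheaf.stalk (f z)) (X.presheaf.stalk z) (F.presheaf.stalk z) :=
    IsScalarTower.of_algebraMap_smul fun _ _ => rfl
  haveI : IsLocalHom (algebraMap (Y.presheaf.stalk (f z)) (X.presheaf.stalk z)) :=
    inferInstanceAs (IsLocalHom (f.stalkMap z).hom)
  haveI : Module.Flat (Y.presheaf.stalk (f z)) (F.presheaf.stalk z) := hflat z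
  haveI := QCoh.finite_stalk_of_isFT hF.1 hF.2 z
  haveI := QCoh.finite_stalk_of_isFT hE.1 hE.2 (f z)
  haveI : Nontrivial (F.presheaf.stalk z) := not_subsingleton_iff_nontrivial.1 hsupp
  obtain ⟨e⟩ := nonempty_stalk_pullback_tensor f z E F
  rw [← e.length_eq]
  exact length_tensor_eq_one_iff ((mem_ass_iff_soc E (f z)).1 hs')

end Groth.Agent.AssLib2
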