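import Groth.Agent.AssLib2.Scheme

/-!
# Associated points of `F ⊗_S G`
-/

set_option autoImplicit false
set_option linter.style.haveILetI false
set_option backward.isDefEq.respectTransparency false
set_option backward.isDefEq.respectTransparency.types false

universe u

open AlgebraicGeometry CategoryTheory Limits IsLocalRing

namespace Groth.Agent.AssLib2

variable {X Y S : Scheme.{u}} (f : X ⟶ S) (g : Y ⟶ S)

/-- The map of fibres. -/
noncomputable def fibMap (x : X) : (pullback.fst f g).fiber x ⟶ g.fiber (f x) :=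
  pullback.map _ _ _ _ (pullback.snd f g) (Spec.map (f.residueFieldMap x)) f pullback.condition (by simp)

theorem isPullback_fibMap (x : X) :
    IsPullback (fibMap f g x) ((pullback.fst f g).fiberToSpecResidueField x) (g.fiberToSpecResidueField (f x))
      (Spec.map (f.residueFieldMap x)) :=
  isPullback_fiberToSpecResidueField_of_isPullback (IsPullback.of_hasPullback f g).flip x

theorem fibMap_fiberι (x : X) :
    fibMap f g x ≫ g.fiberι (f x) = (pullback.fst f g).fiberι x ≫ pullback.snd f g :=
  pullback.lift_fst _ _ _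

instance flat_fibMap (x : X) : Flat (fibMap f g x) :=
  MorphismProperty.of_isPullback (isPullback_fibMap f g x).flip (by
    rw [HasRingHomProperty.Spec_iff (P := @Flat)]
    algebraize [(f.residueFieldMap x).hom]
    exact RingHom.flat_algebraMap_iff.2 inferInstance)

variable (F : X.Modules) (G : Y.Modules)

/-- The two-step description of the associated points of `F ⊗_S G`. -/
theorem mem_ass_tensorS_iff [IsLocallyNoetherian X] [IsLocallyNoetherian Y] [IsLocallyNoetherian (pullback f g)]
    (hGfl : FlatMod.IsFlatOver g G) (x : X) (y' : ↥(g.fiber (f x))) (v : ↥((fibMap f g x).fiber y')) :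
    (pullback.fst f g).fiberι x ((fibMap f g x).fiberι y' v) ∈
        AssSch.Ass (CohB1.tensorMod ((Scheme.Modules.pullback (pullback.fst f g)).obj F)
          ((Scheme.Modules.pullback (pullback.snd f g)).obj G)) ↔
      x ∈ AssSch.Ass F ∧ y' ∈ AssSch.Ass ((Scheme.Modules.pullback (g.fiberι (f x))).obj G) ∧
        v ∈ AssSch.Ass (Coh.structureModule ((fibMap f g x).fiber y')) := by
  let e : (Scheme.Modules.pullback ((pullback.fst f g).fiberι x)).obj ((Scheme.Modules.pullback (pullback.snd f g)).obj G) ≅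
      (Scheme.Modules.pullback (fibMap f g x)).obj ((Scheme.Modules.pullback (g.fiberι (f x))).obj G) :=
    (Scheme.Modules.pullbackComp _ _).app G ≪≫ (Scheme.Modules.pullbackCongr (fibMap_fiberι f g x).symm).app G ≪≫
      ((Scheme.Modules.pullbackComp _ _).app G).symm
  haveI := isNoetherianRing_stalk_fibre (pullback.fst f g) x ((fibMap f g x).fiberι y' v)
  haveI : IsNoetherianRing ((g.fiber (f x)).presheaf.stalk ((fibMap f g x) ((fibMap f g x).fiberι y' v))) :=
    isNoetherianRing_stalk_fibre g (f x) _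
  rw [mem_ass_tensor_iff (pullback.fst f g) F _ x _
    (MorLib.FlatBC.isFlatOverAt_baseChange g (pullback.fst f g) (pullback.snd f g) f (IsPullback.of_hasPullback f g).flip G _
      (hGfl _)), ass_congr e, mem_ass_pullback_iff (fibMap f g x) _ y' v]

/-- The canonical map from `Spec κ(x) ×_S Spec κ(y)`. -/
noncomputable abbrev ptMap (x : X) (y : Y) :
    pullback (X.fromSpecResidueField x ≫ f) (Y.fromSpecResidueField y ≫ g) ⟶ pullback f g :=
  pullback.map (X.fromSpecResidueField x ≫ f) (Y.fromSpecResidueField y ≫ g) f g (X.fromSpecResidueField x)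
    (Y.fromSpecResidueField y) (𝟙 S) (Category.comp_id _) (Category.comp_id _)

theorem mono_ptMap (x : X) (y : Y) : Mono (ptMap f g x y) := by
  haveI : IsPreimmersion (ptMap f g x y) := MorphismProperty.pullbackMap (P := @IsPreimmersion)
    (i₁ := X.fromSpecResidueField x) (i₂ := Y.fromSpecResidueField y) inferInstance inferInstance rfl rfl
  infer_instance

theorem exists_pt_iso (x : X) (y' : ↥(g.fiber (f x))) :
    ∃ e : (fibMap f g x).fiber y' ≅
        pullback (X.fromSpecResidueField x ≫ f) (Y.fromSpecResidueField (g.fiberι (f x) y') ≫ g),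
      e.hom ≫ ptMap f g x (g.fiberι (f x) y') = (fibMap f g x).fiberι y' ≫ (pullback.fst f g).fiberι x := by
  let p := pullback.fst f g
  let h := fibMap f g x
  let ι := g.fiberι (f x)
  let m := ptMap f g x (ι y')
  haveI : IsIso (ι.residueFieldMap y') := by
    haveI : Function.Surjective (ι.residueFieldMap y').hom := fun z => by
      obtain ⟨z, rfl⟩ := IsLocalRing.residue_surjective z
      obtain ⟨z, rfl⟩ := ι.stalkMap_surjective y' z
      exact ⟨IsLocalRing.residue _ z, rfl⟩
    exact (ConcreteCategory.isIso_iff_bijective _).2 ⟨(ι.residueFieldMap y').hom.injective, this⟩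
  let r : Spec ((g.fiber (f x)).residueField y') ⟶ Spec (Y.residueField (ι y')) := Spec.map (ι.residueFieldMap y')
  have hr : r ≫ Y.fromSpecResidueField (ι y') = (g.fiber (f x)).fromSpecResidueField y' ≫ ι :=
    Scheme.Hom.SpecMap_residueFieldMap_fromSpecResidueField ι y'
  -- forward
  let k₁ := h.fiberι y' ≫ p.fiberToSpecResidueField x
  let k₂ := h.fiberToSpecResidueField y' ≫ r
  have c₁ : k₁ ≫ X.fromSpecResidueField x = (h.fiberι y' ≫ p.fiberι x) ≫ p := by
    simp only [k₁, Category.assoc, ← p.fiber_fac]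
  have c₂ : k₂ ≫ Y.fromSpecResidueField (ι y') = (h.fiberι y' ≫ p.fiberι x) ≫ pullback.snd f g := by
    simp only [k₂, Category.assoc, hr, ← h.fiber_fac_assoc, ι, h, p, fibMap_fiberι]
  let k : h.fiber y' ⟶ pullback (X.fromSpecResidueField x ≫ f) (Y.fromSpecResidueField (ι y') ≫ g) :=
    pullback.lift k₁ k₂ (by
      rw [← Category.assoc, c₁, ← Category.assoc, c₂, Category.assoc, Category.assoc, Category.assoc,
        Category.assoc, pullback.condition])
  have hk : k ≫ m = h.fiberι y' ≫ p.fiberι x := pullback.hom_ext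
    (by simp only [Category.assoc, m, ptMap, pullback.map, pullback.lift_fst, k, pullback.lift_fst_assoc]
        exact c₁.trans (Category.assoc _ _ _))
    (by simp only [Category.assoc, m, ptMap, pullback.map, pullback.lift_snd, k, pullback.lift_snd_assoc]
        exact c₂.trans (Category.assoc _ _ _))
  -- backward
  let j₁ : pullback (X.fromSpecResidueField x ≫ f) (Y.fromSpecResidueField (ι y') ≫ g) ⟶ p.fiber x :=
    pullback.lift m (pullback.fst _ _) (pullback.lift_fst _ _ _)
  have hj₁ : j₁ ≫ p.fiberι x = m := pullback.lift_fst _ _ _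
  let j₂ := pullback.snd (X.fromSpecResidueField x ≫ f) (Y.fromSpecResidueField (ι y') ≫ g) ≫ inv r
  let j : pullback (X.fromSpecResidueField x ≫ f) (Y.fromSpecResidueField (ι y') ≫ g) ⟶ h.fiber y' :=
    pullback.lift j₁ j₂ (by
      rw [← cancel_mono ι]
      simp only [Category.assoc, h, ι, fibMap_fiberι, j₂]
      rw [← hr, IsIso.inv_hom_id_assoc, ← Category.assoc, hj₁]
      exact pullback.lift_snd _ _ _)
  have hj : j ≫ h.fiberι y' ≫ p.fiberι x = m := by
    rw [← Category.assoc, show j ≫ h.fiberι y' = j₁ from pullback.lift_fst _ _ _, hj₁]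
  haveI : Mono m := mono_ptMap f g x _
  haveI : Mono (h.fiberι y' ≫ p.fiberι x) := mono_comp _ _
  refine ⟨⟨k, j, ?_, ?_⟩, hk⟩
  · rw [← cancel_mono (h.fiberι y' ≫ p.fiberι x), Category.assoc, hj, hk, Category.id_comp]
  · rw [← cancel_mono m, Category.assoc, hk, hj, Category.id_comp]

theorem noetherian_and_ass_of_iso {A B : Scheme.{u}} (e : A ≅ B) (v : A) [IsNoetherianRing (A.presheaf.stalk v)] :
    e.hom v ∈ AssSch.Ass (Coh.structureModule B) ↔ v ∈ AssSch.Ass (Coh.structureModule A) := by
  let σ : B.presheaf.stalk (e.hom v) →+* A.presheaf.stalk v := (e.hom.stalkMap v).hom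
  have hσ : Function.Bijective σ := ConcreteCategory.bijective_of_isIso (e.hom.stalkMap v)
  haveI : IsNoetherianRing (B.presheaf.stalk (e.hom v)) :=
    isNoetherianRing_of_ringEquiv _ (RingEquiv.ofBijective σ hσ).symm
  obtain ⟨uA⟩ := nonempty_stalkUnit (X := A) v
  obtain ⟨uB⟩ := nonempty_stalkUnit (X := B) (e.hom v)
  rw [mem_ass_iff_soc, mem_ass_iff_soc,
    ← soc_of_semilinear (RingHom.id _) Function.surjective_id uA.toAddEquiv (fun r v => uA.map_smul r v),
    ← soc_of_semilinear (RingHom.id _) Function.surjective_id uB.toAddEquiv (fun r v => uB.map_smul r v)]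
  exact soc_of_semilinear σ hσ.2 (RingEquiv.ofBijective σ hσ).toAddEquiv (fun r v => map_mul σ r v)

/-- The associated points as a union. -/
theorem ass_tensorS_eq [IsLocallyNoetherian X] [IsLocallyNoetherian Y] [IsLocallyNoetherian (pullback f g)]
    (hGfl : FlatMod.IsFlatOver g G) (z : ↥(pullback f g)) :
    z ∈ AssSch.Ass (CohB1.tensorMod ((Scheme.Modules.pullback (pullback.fst f g)).obj F)
        ((Scheme.Modules.pullback (pullback.snd f g)).obj G)) ↔
      ∃ x, x ∈ AssSch.Ass F ∧ ∃ y' : ↥(g.fiber (f x)),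
        y' ∈ AssSch.Ass ((Scheme.Modules.pullback (g.fiberι (f x))).obj G) ∧
          z ∈ ptMap f g x (g.fiberι (f x) y') ''
            AssSch.Ass (Coh.structureModule (pullback (X.fromSpecResidueField x ≫ f)
              (Y.fromSpecResidueField (g.fiberι (f x) y') ≫ g))) := by
  constructor
  · intro hz
    let x := pullback.fst f g z
    let w := (pullback.fst f g).asFiber z
    let v := (fibMap f g x).asFiber w
    have hzv : (pullback.fst f g).fiberι x ((fibMap f g x).fiberι _ v) = z := by
      rw [show (fibMap f g x).fiberι _ v = w from (fibMap f g x).fiberι_asFiber w]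
      exact (pullback.fst f g).fiberι_asFiber z
    have h := (mem_ass_tensorS_iff f g F G hGfl x _ v).1 (hzv.symm ▸ hz)
    obtain ⟨e, he⟩ := exists_pt_iso f g x (fibMap f g x w)
    haveI := isNoetherianRing_stalk_fibre (pullback.fst f g) x ((fibMap f g x).fiberι _ v)
    haveI := isNoetherianRing_stalk_fibre (fibMap f g x) _ v
    refine ⟨x, h.1, _, h.2.1, e.hom v, (noetherian_and_ass_of_iso e v).2 h.2.2, ?_⟩
    rw [← Scheme.Hom.comp_apply, he]
    exact hzv
  · rintro ⟨x, hx, y', hy', t, ht, rfl⟩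
    obtain ⟨e, he⟩ := exists_pt_iso f g x y'
    obtain ⟨v, rfl⟩ := e.hom.homeomorph.surjective t
    haveI := isNoetherianRing_stalk_fibre (pullback.fst f g) x ((fibMap f g x).fiberι _ v)
    haveI := isNoetherianRing_stalk_fibre (fibMap f g x) _ v
    have h := (mem_ass_tensorS_iff f g F G hGfl x y' v).2 ⟨hx, hy', (noetherian_and_ass_of_iso e v).1 ht⟩
    show (ptMap f g x _) (e.hom v) ∈ _
    rw [← Scheme.Hom.comp_apply, he]
    exact h

/-- Flatness over the base at an associated point. -/
theorem fibre_ass_iff [IsLocallyNoetherian Y] [IsLocallyNoetherian S] (hGfl : FlatMod.IsFlatOver g G) (s : S)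
    (y' : ↥(g.fiber s)) :
    g.fiberι s y' ∈ AssSch.Ass G ↔
      s ∈ AssSch.Ass (Coh.structureModule S) ∧ y' ∈ AssSch.Ass ((Scheme.Modules.pullback (g.fiberι s)).obj G) :=
  mem_ass_flat_iff g G s y' (hGfl _)

theorem pt_maximal_fibre (x : X) (y' : ↥(g.fiber (f x))) [IsLocallyNoetherian (pullback f g)]
    (v v' : ↥((fibMap f g x).fiber y')) (hv : v ∈ AssSch.Ass (Coh.structureModule ((fibMap f g x).fiber y')))
    (h : v' ⤳ v) : v' = v := by
  haveI := isNoetherianRing_stalk_fibre (pullback.fst f g) x ((fibMap f g x).fiberι _ v)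
  haveI := isNoetherianRing_stalk_fibre (fibMap f g x) _ v
  have hsq := (IsPullback.of_hasPullback (fibMap f g x) ((g.fiber (f x)).fromSpecResidueField y')).paste_horiz
    (isPullback_fibMap f g x).flip
  let k := S.residueField (f x)
  let K := X.residueField x
  let L := (g.fiber (f x)).residueField y'
  obtain ⟨ψ, hψ⟩ := Spec.map_surjective ((g.fiber (f x)).fromSpecResidueField y' ≫ g.fiberToSpecResidueField (f x))
  letI : Algebra k L := ψ.hom.toAlgebra
  letI : Algebra k K := (f.residueFieldMap x).hom.toAlgebra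
  let e : (fibMap f g x).fiber y' ≅ Spec (CommRingCat.of (TensorProduct k L K)) :=
    hsq.flip.isoPullback ≪≫ pullback.congrHom hψ.symm rfl ≪≫ pullbackSpecIso k L K
  let Q : PrimeSpectrum (TensorProduct k L K) := e.hom v
  let P : PrimeSpectrum (TensorProduct k L K) := e.hom v'
  have hPQ : P.asIdeal ≤ Q.asIdeal := (PrimeSpectrum.le_iff_specializes P Q).2 (h.map e.hom.continuous)
  have hd : AssLib.DepthZero (((fibMap f g x).fiber y').presheaf.stalk v) := by
    obtain ⟨u⟩ := nonempty_stalkUnit (X := (fibMap f g x).fiber y') v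
    rw [mem_ass_iff_soc,
      ← soc_of_semilinear (RingHom.id _) Function.surjective_id u.toAddEquiv (fun r v => u.map_smul r v)] at hv
    exact hv
  have h' : AssLib.DepthZero (Localization.AtPrime Q.asIdeal) :=
    hd.of_equiv ((asIso (e.hom.stalkMap v)).symm.commRingCatIsoToRingEquiv.trans
      (StructureSheaf.stalkIso (TensorProduct k L K) Q).toRingEquiv.symm)
  exact e.hom.homeomorph.injective (PrimeSpectrum.ext (AssLib.eq_of_depthZero_tensor_fields Q.asIdeal h' P.asIdeal hPQ))

theorem noEmbedded_tensorS [IsLocallyNoetherian X] [IsLocallyNoetherian Y] [IsLocallyNoetherian (pullback f g)]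
    (hGfl : FlatMod.IsFlatOver g G) (hF : AssSch.NoEmbedded F)
    (hG : ∀ x ∈ AssSch.Ass F, ∀ a ∈ AssSch.Ass ((Scheme.Modules.pullback (g.fiberι (f x))).obj G),
      ∀ b ∈ AssSch.Ass ((Scheme.Modules.pullback (g.fiberι (f x))).obj G), b ⤳ a → b = a) :
    AssSch.NoEmbedded (CohB1.tensorMod ((Scheme.Modules.pullback (pullback.fst f g)).obj F)
      ((Scheme.Modules.pullback (pullback.snd f g)).obj G)) := by
  intro z hz z' hz' h
  let p := pullback.fst f g
  obtain ⟨x, hxdef⟩ : ∃ x, x = p z := ⟨_, rfl⟩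
  obtain ⟨w, rfl⟩ : z ∈ Set.range (p.fiberι x) := by rw [Scheme.Hom.range_fiberι]; exact hxdef.symm
  obtain ⟨y', hy'def⟩ : ∃ y', y' = fibMap f g x w := ⟨_, rfl⟩
  obtain ⟨v, rfl⟩ : w ∈ Set.range ((fibMap f g x).fiberι y') := by rw [Scheme.Hom.range_fiberι]; exact hy'def.symm
  obtain ⟨h1, h2, h3⟩ := (mem_ass_tensorS_iff f g F G hGfl x y' v).1 hz
  obtain ⟨x', hx'def⟩ : ∃ x', x' = p z' := ⟨_, rfl⟩
  obtain ⟨w', rfl⟩ : z' ∈ Set.range (p.fiberι x') := by rw [Scheme.Hom.range_fiberι]; exact hx'def.symm
  obtain ⟨y'', hy''def⟩ : ∃ y'', y'' = fibMap f g x' w' := ⟨_, rfl⟩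
  obtain ⟨v', rfl⟩ : w' ∈ Set.range ((fibMap f g x').fiberι y'') := by rw [Scheme.Hom.range_fiberι]; exact hy''def.symm
  obtain ⟨h1', h2', -⟩ := (mem_ass_tensorS_iff f g F G hGfl x' y'' v').1 hz'
  obtain rfl : x = x' := hF x h1 x' h1' (hx'def ▸ hxdef ▸ h.map p.continuous)
  have hw := (p.fiberι x).isEmbedding.isInducing.specializes_iff.1 h
  obtain rfl : y'' = y' := hG x h1 y' h2 y'' h2' (hy''def ▸ hy'def ▸ hw.map (fibMap f g x).continuous)
  have hv := ((fibMap f g x).fiberι y'').isEmbedding.isInducing.specializes_iff.1 hw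
  rw [pt_maximal_fibre f g x y'' v v' h3 hv]

end Groth.Agent.AssLib2
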